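import Groth.Agent.DevissLib.Induction
import Groth.Prelude.Def_WeakSerre

/-!
# Coherent modules supported in a closed set form a weak Serre class
-/

set_option autoImplicit false

universe u

open CategoryTheory CategoryTheory.Limits AlgebraicGeometry TopologicalSpace Opposite

namespace Groth.Agent.KHeartLib

variable {X : Scheme.{u}} [IsLocallyNoetherian X]

/-- Coherent modules are closed under extensions. -/
theorem isCoh_of_shortExact {S : ShortComplex X.Modules} (hS : S.ShortExact)
    (h₁ : Coh.IsCoh S.X₁) (h₃ : Coh.IsCoh S.X₃) : Coh.IsCoh S.X₂ := by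
  have : Coh.IsQCoh S.X₁ := h₁.1
  have : Coh.IsQCoh S.X₃ := h₃.1
  have hq : Coh.IsQCoh S.X₂ := QCohLib.isQCoh_of_shortExact hS
  refine ⟨hq, QCohLib.isFT_of_finite fun p => ?_⟩
  obtain ⟨U, hU, hp⟩ := QCohLib.exists_affine_nhd p
  have : IsNoetherianRing Γ(X, U) := IsLocallyNoetherian.component_noetherian ⟨U, hU⟩
  have := QCohLib.finite_of_isFT h₁.2 hU
  have := QCohLib.finite_of_isFT h₃.2 hU
  have h : LinearMap.range (QCohLib.appLin S.f U) = LinearMap.ker (QCohLib.appLin S.g U) := by
    ext y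
    exact ⟨fun ⟨z, hz⟩ => hz ▸ QCohLib.map_eq_zero_of_zero z,
      fun hy => QCohLib.exists_of_app_eq_zero hS.exact hS.mono_f y hy⟩
  have := isNoetherian_of_range_eq_ker _ _ h
  exact ⟨U, hU, hp, Module.IsNoetherian.finite _ _⟩

omit [IsLocallyNoetherian X] in
/-- The support of an extension. -/
theorem support_X₂_subset {S : ShortComplex X.Modules} (hS : S.ShortExact) :
    CohB1.support S.X₂ ⊆ CohB1.support S.X₁ ∪ CohB1.support S.X₃ := by
  intro x hx
  by_contra h
  rw [Set.mem_union, not_or] at h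
  rw [DevissLib.notMem_support_iff, DevissLib.notMem_support_iff] at h
  exact (DevissLib.notMem_support_iff _ x).2
    ((hS.exact.map (DevissLib.St x)).isZero_of_both_zeros (h.1.eq_of_src _ _) (h.2.eq_of_tgt _ _)) hx

omit [IsLocallyNoetherian X] in
/-- Coherent modules supported in `Y`. -/
abbrev cohIn (Y : Set X) : ObjectProperty X.Modules :=
  fun M => Coh.IsCoh M ∧ CohB1.support M ⊆ Y

theorem isWeakSerre_cohIn (Y : Set X) : WSerre.IsWeakSerre (cohIn Y) where
  exists_zero := ⟨_, Limits.isZero_zero _, DevissLib.isCoh_of_isZero (Limits.isZero_zero _),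
    by rw [DevissLib.support_of_isZero (Limits.isZero_zero _)]; exact Set.empty_subset _⟩
  kernels_le := by
    rintro _ ⟨f, k, hk, hf⟩
    have e : k.pt ≅ kernel f := hk.conePointUniqueUpToIso (limit.isLimit _)
    exact ⟨QCohLib.isCoh_of_iso e.symm (QCohLib.isCoh_kernel f hf.1.1 hf.2.1.1),
      (DevissLib.support_iso e).le.trans ((DevissLib.support_mono (kernel.ι f)).trans hf.1.2)⟩
  cokernels_le := by
    rintro _ ⟨f, k, hk, hf⟩
    have e : k.pt ≅ cokernel f := hk.coconePointUniqueUpToIso (colimit.isColimit _)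
    exact ⟨QCohLib.isCoh_of_iso e.symm (QCohLib.isCoh_cokernel f hf.1.1.1 hf.2.1),
      (DevissLib.support_iso e).le.trans ((DevissLib.support_epi (cokernel.π f)).trans hf.2.2)⟩
  prop_X₂_of_shortExact hS h₁ h₃ := ⟨isCoh_of_shortExact hS h₁.1 h₃.1,
    (support_X₂_subset hS).trans (Set.union_subset h₁.2 h₃.2)⟩

theorem isWeakSerre_isCoh : WSerre.IsWeakSerre (fun M : X.Modules => Coh.IsCoh M) where
  exists_zero := ⟨_, Limits.isZero_zero _, DevissLib.isCoh_of_isZero (Limits.isZero_zero _)⟩
  kernels_le := by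
    rintro _ ⟨f, k, hk, hf⟩
    exact QCohLib.isCoh_of_iso (hk.conePointUniqueUpToIso (limit.isLimit _)).symm
      (QCohLib.isCoh_kernel f hf.1 hf.2.1)
  cokernels_le := by
    rintro _ ⟨f, k, hk, hf⟩
    exact QCohLib.isCoh_of_iso (hk.coconePointUniqueUpToIso (colimit.isColimit _)).symm
      (QCohLib.isCoh_cokernel f hf.1.1 hf.2)
  prop_X₂_of_shortExact hS h₁ h₃ := isCoh_of_shortExact hS h₁ h₃

end Groth.Agent.KHeartLib
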