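import Groth.Prelude.Def_KZero
import Mathlib.CategoryTheory.ObjectProperty.ContainsZero

/-!
# Elementary lemmas on classes in the Grothendieck groups `KZero.K0sub` and `KZero.K0tr`
-/

set_option autoImplicit false

universe v u w

open CategoryTheory CategoryTheory.Limits Pretriangulated ZeroObject

namespace Groth.Agent.KHeartLib

section Ab

variable {A : Type u} [Category.{v} A] [Abelian A] (P : ObjectProperty A)

theorem clSub_of {X : A} (h : P X) :
    KZero.clSub P X = QuotientAddGroup.mk (FreeAbelianGroup.of ⟨X, h⟩) := dif_pos h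

theorem clSub_add (S : ShortComplex A) (hS : S.ShortExact) (h₁ : P S.X₁) (h₂ : P S.X₂)
    (h₃ : P S.X₃) : KZero.clSub P S.X₂ = KZero.clSub P S.X₁ + KZero.clSub P S.X₃ := by
  rw [clSub_of P h₁, clSub_of P h₂, clSub_of P h₃, ← QuotientAddGroup.mk_add,
    QuotientAddGroup.eq_iff_sub_mem]
  exact AddSubgroup.subset_closure ⟨S, h₁, h₂, h₃, hS, by abel⟩

theorem clSub_eq_zero {X : A} (h : P X) (hX : IsZero X) : KZero.clSub P X = 0 := by
  have hS : (ShortComplex.mk (0 : X ⟶ X) (0 : X ⟶ X) zero_comp).ShortExact := by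
    refine { exact := ShortComplex.exact_of_isZero_X₂ _ hX, mono_f := ?_, epi_g := ?_ }
    · exact ⟨fun _ _ _ => hX.eq_of_tgt _ _⟩
    · exact ⟨fun _ _ _ => hX.eq_of_src _ _⟩
  exact add_eq_left.1 (clSub_add P _ hS h h h).symm

theorem clSub_congr [P.IsClosedUnderIsomorphisms] [P.ContainsZero] {X Y : A} (e : X ≅ Y) :
    KZero.clSub P X = KZero.clSub P Y := by
  by_cases h : P X
  · obtain ⟨Z, hZ, hPZ⟩ := P.exists_prop_of_containsZero
    have hY : P Y := P.prop_of_iso e h
    have hS : (ShortComplex.mk e.hom (0 : Y ⟶ Z) comp_zero).ShortExact := by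
      refine { exact := (ShortComplex.exact_iff_epi _ rfl).2 inferInstance,
               mono_f := inferInstance, epi_g := ⟨fun _ _ _ => hZ.eq_of_src _ _⟩ }
    rw [clSub_add P _ hS h hY hPZ, clSub_eq_zero P hPZ hZ, add_zero]
  · rw [KZero.clSub, dif_neg h, KZero.clSub, dif_neg (fun hY => h (P.prop_of_iso e.symm hY))]

theorem clSub_closure_eq_top :
    AddSubgroup.closure {x | ∃ X : A, P X ∧ KZero.clSub P X = x} = ⊤ := by
  rw [eq_top_iff]
  rintro x -
  obtain ⟨y, rfl⟩ := QuotientAddGroup.mk'_surjective _ x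
  induction y using FreeAbelianGroup.induction_on with
  | zero => simp
  | of X => exact AddSubgroup.subset_closure ⟨X.1, X.2, clSub_of P X.2⟩
  | neg X h => rw [map_neg]; exact neg_mem h
  | add x y hx hy => rw [map_add]; exact add_mem hx hy

/-- Homomorphisms out of `K0sub P` from additive functions. -/
theorem exists_lift_sub {M : Type*} [AddCommGroup M] (f : A → M)
    (hf : ∀ S : ShortComplex A, S.ShortExact → P S.X₁ → P S.X₂ → P S.X₃ →
      f S.X₂ = f S.X₁ + f S.X₃) :
    ∃ φ : KZero.K0sub P →+ M, ∀ X, P X → φ (KZero.clSub P X) = f X := by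
  refine ⟨QuotientAddGroup.lift _ (FreeAbelianGroup.lift fun X : Subtype P => f X.1) ?_, ?_⟩
  · rw [KZero.relSub, AddSubgroup.closure_le]
    rintro _ ⟨S, h₁, h₂, h₃, hS, rfl⟩
    simp [hf S hS h₁ h₂ h₃]
  · intro X hX
    rw [clSub_of P hX]
    simp

end Ab

section Tr

variable {D : Type u} [Category.{v} D] [Preadditive D] [HasZeroObject D] [HasShift D ℤ]
  [∀ n : ℤ, (shiftFunctor D n).Additive] [Pretriangulated D] (Q : ObjectProperty D)

theorem clTr_of {X : D} (h : Q X) :
    KZero.clTr Q X = QuotientAddGroup.mk (FreeAbelianGroup.of ⟨X, h⟩) := dif_pos h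

theorem clTr_add (T : Triangle D) (hT : T ∈ distTriang _) (h₁ : Q T.obj₁) (h₂ : Q T.obj₂)
    (h₃ : Q T.obj₃) : KZero.clTr Q T.obj₂ = KZero.clTr Q T.obj₁ + KZero.clTr Q T.obj₃ := by
  rw [clTr_of Q h₁, clTr_of Q h₂, clTr_of Q h₃, ← QuotientAddGroup.mk_add,
    QuotientAddGroup.eq_iff_sub_mem]
  exact AddSubgroup.subset_closure ⟨T, h₁, h₂, h₃, hT, by abel⟩

theorem clTr_eq_zero [Q.IsClosedUnderIsomorphisms] {X : D} (h : Q X) (hX : IsZero X) :
    KZero.clTr Q X = 0 := by
  have h0 : Q (0 : D) := Q.prop_of_iso hX.isoZero h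
  have := clTr_add Q _ (contractible_distinguished X) h h h0
  simp only [contractibleTriangle_obj₁, contractibleTriangle_obj₂, contractibleTriangle_obj₃] at this
  have h00 : KZero.clTr Q (0 : D) = 0 := add_eq_left.1 this.symm
  have hd : contractibleTriangle X ∈ distTriang _ := contractible_distinguished X
  have e : Triangle.mk (0 : (0 : D) ⟶ X) (0 : X ⟶ 0) 0 ∈ distTriang _ := by
    refine isomorphic_distinguished _ hd _ ?_
    exact Triangle.isoMk _ _ hX.isoZero.symm (Iso.refl _) (Iso.refl _) ((isZero_zero D).eq_of_src _ _)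
      (hX.eq_of_src _ _) ((isZero_zero D).eq_of_src _ _)
  have h2 := clTr_add Q _ e h0 h h0
  simp only [Triangle.mk] at h2
  rw [h00, add_zero] at h2
  exact h2

theorem clTr_congr [Q.IsClosedUnderIsomorphisms] [Q.ContainsZero] {X Y : D} (e : X ≅ Y) :
    KZero.clTr Q X = KZero.clTr Q Y := by
  by_cases h : Q X
  · obtain ⟨Z, hZ, hQZ⟩ := Q.exists_prop_of_containsZero
    have hY : Q Y := Q.prop_of_iso e h
    have hd : Triangle.mk e.hom (0 : Y ⟶ Z) (0 : Z ⟶ X⟦(1 : ℤ)⟧) ∈ distTriang _ := by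
      refine isomorphic_distinguished _ (contractible_distinguished X) _ ?_
      exact Triangle.isoMk _ _ (Iso.refl _) e.symm hZ.isoZero (e.hom_inv_id.trans (Category.id_comp _).symm)
        ((isZero_zero D).eq_of_tgt _ _) (hZ.eq_of_src _ _)
    have h3 := clTr_add Q _ hd h hY hQZ
    simp only [Triangle.mk] at h3
    rw [clTr_eq_zero Q hQZ hZ, add_zero] at h3
    exact h3.symm
  · rw [KZero.clTr, dif_neg h, KZero.clTr, dif_neg (fun hY => h (Q.prop_of_iso e.symm hY))]

theorem clTr_shift_one [Q.IsClosedUnderIsomorphisms] [Q.ContainsZero] {X : D} (h : Q X)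
    (h' : Q (X⟦(1 : ℤ)⟧)) : KZero.clTr Q (X⟦(1 : ℤ)⟧) = -KZero.clTr Q X := by
  obtain ⟨Z, hZ, hQZ⟩ := Q.exists_prop_of_containsZero
  have h0 : Q (0 : D) := Q.prop_of_iso hZ.isoZero hQZ
  have h2 := clTr_add Q _ (rot_of_distTriang _ (contractible_distinguished X)) h h0 h'
  change KZero.clTr Q (0 : D) = KZero.clTr Q X + KZero.clTr Q (X⟦(1 : ℤ)⟧) at h2
  rw [clTr_eq_zero Q h0 (isZero_zero D)] at h2
  exact (neg_eq_of_add_eq_zero_right h2.symm).symm

/-- Homomorphisms out of `K0tr Q` from additive functions. -/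
theorem exists_lift_tr {M : Type*} [AddCommGroup M] (f : D → M)
    (hf : ∀ T : Triangle D, T ∈ distTriang _ → Q T.obj₁ → Q T.obj₂ → Q T.obj₃ →
      f T.obj₂ = f T.obj₁ + f T.obj₃) :
    ∃ φ : KZero.K0tr Q →+ M, ∀ X, Q X → φ (KZero.clTr Q X) = f X := by
  refine ⟨QuotientAddGroup.lift _ (FreeAbelianGroup.lift fun X : Subtype Q => f X.1) ?_, ?_⟩
  · rw [KZero.relTr, AddSubgroup.closure_le]
    rintro _ ⟨T, h₁, h₂, h₃, hT, rfl⟩
    simp [hf T hT h₁ h₂ h₃]
  · intro X hX
    rw [clTr_of Q hX]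
    simp

theorem clTr_closure_eq_top :
    AddSubgroup.closure {x | ∃ X : D, Q X ∧ KZero.clTr Q X = x} = ⊤ := by
  rw [eq_top_iff]
  rintro x -
  obtain ⟨y, rfl⟩ := QuotientAddGroup.mk'_surjective _ x
  induction y using FreeAbelianGroup.induction_on with
  | zero => simp
  | of X => exact AddSubgroup.subset_closure ⟨X.1, X.2, clTr_of Q X.2⟩
  | neg X h => rw [map_neg]; exact neg_mem h
  | add x y hx hy => rw [map_add]; exact add_mem hx hy

end Tr

end Groth.Agent.KHeartLib
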