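import Groth.Agent.KHeartLib.Classes
import Groth.Agent.DerLib.WeakSerreTri
import Mathlib.Algebra.BigOperators.Finprod
import Mathlib.Algebra.Homology.DerivedCategory.SingleTriangle
import Mathlib.Algebra.Ring.NegOnePow
import Mathlib.Data.Int.Interval

/-!
# Euler characteristics and `K₀` of bounded objects with cohomology in a weak Serre class
-/

set_option autoImplicit false
set_option linter.unusedSectionVars false
set_option linter.style.haveILetI false

universe w v u

open CategoryTheory CategoryTheory.Limits Pretriangulated DerivedCategory DerivedCategory.TStructure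
open Groth.Agent.DerLib Groth.Agent.DerLib.Devissage

namespace Groth.Agent.KHeartLib

variable {A : Type u} [Category.{v} A] [Abelian A] (P : ObjectProperty A) [WSerre.IsWeakSerre P]

/-- Splitting the class of the middle term of an exact pair. -/
theorem clSub_exact {X₁ X₂ X₃ : A} (a : X₁ ⟶ X₂) (b : X₂ ⟶ X₃) (w : a ≫ b = 0)
    (h : (ShortComplex.mk a b w).Exact) (p₁ : P X₁) (p₂ : P X₂) (p₃ : P X₃) :
    KZero.clSub P X₁ = KZero.clSub P (kernel a) + KZero.clSub P (kernel b) := by
  have : Epi (kernel.lift b a w) := h.epi_kernelLift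
  have hw : kernel.ι a ≫ kernel.lift b a w = 0 := by
    rw [← cancel_mono (kernel.ι b), Category.assoc, kernel.lift_ι, kernel.condition, zero_comp]
  have hex : (ShortComplex.mk (kernel.ι a) (kernel.lift b a w) hw).Exact := by
    refine ShortComplex.exact_of_f_is_kernel _ ?_
    exact isKernelOfComp (kernel.ι b) (f := kernel.lift b a w) (h := a) (kernelIsKernel a)
      hw (kernel.lift_ι b a w)
  exact clSub_add P _ { exact := hex } (P.prop_kernel a p₁ p₂) p₁ (P.prop_kernel b p₂ p₃)

variable [HasDerivedCategory.{w} A]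

local notation "H" => DerivedCategory.homologyFunctor A

/-- The Euler characteristic of the cohomology objects. -/
noncomputable def euler (K : DerivedCategory A) : KZero.K0sub P :=
  ∑ᶠ i : ℤ, ((i.negOnePow : ℤˣ) : ℤ) • KZero.clSub P ((H i).obj K)

theorem support_finite (f : ℤ → KZero.K0sub P) (a b : ℤ) (h : ∀ i, (i < a ∨ b < i) → f i = 0) :
    (Function.support f).Finite :=
  (Set.finite_Icc a b).subset fun i hi => by
    by_contra h'
    exact hi (h i (by simp only [Set.mem_Icc, not_and, not_le] at h'; omega))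

theorem cl_isZero {X : A} (hX : IsZero X) : KZero.clSub P X = 0 :=
  clSub_eq_zero P (P.prop_of_isZero hX) hX

theorem euler_add (T : Triangle (DerivedCategory A)) (hT : T ∈ distTriang _) (a b : ℤ)
    (hz : ∀ i, (i < a ∨ b < i) → IsZero ((H i).obj T.obj₁) ∧ IsZero ((H i).obj T.obj₂) ∧
      IsZero ((H i).obj T.obj₃))
    (h₁ : ∀ i, P ((H i).obj T.obj₁)) (h₂ : ∀ i, P ((H i).obj T.obj₂))
    (h₃ : ∀ i, P ((H i).obj T.obj₃)) :
    euler P T.obj₂ = euler P T.obj₁ + euler P T.obj₃ := by
  let k : ℤ → KZero.K0sub P := fun i => KZero.clSub P (kernel ((H i).map T.mor₁))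
  let g : ℤ → KZero.K0sub P := fun i => ((i.negOnePow : ℤˣ) : ℤ) • k i
  have hk : ∀ i, (i < a ∨ b < i) → k i = 0 := fun i hi => cl_isZero P
    ((hz i hi).1.of_mono (kernel.ι ((H i).map T.mor₁)))
  have key : ∀ i : ℤ, KZero.clSub P ((H i).obj T.obj₁) + KZero.clSub P ((H i).obj T.obj₃) -
      KZero.clSub P ((H i).obj T.obj₂) = k i + k (i + 1) := by
    intro i
    rw [clSub_exact P _ _ _ (HomologySequence.exact₂ T hT i) (h₁ i) (h₂ i) (h₃ i),
      clSub_exact P _ _ _ (HomologySequence.exact₃ T hT i (i + 1) rfl) (h₂ i) (h₃ i) (h₁ (i + 1)),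
      clSub_exact P _ _ _ (HomologySequence.exact₁ T hT i (i + 1) rfl) (h₃ i) (h₁ (i + 1))
        (h₂ (i + 1))]
    simp only [k]
    abel
  have fin : ∀ X : DerivedCategory A, (∀ i, (i < a ∨ b < i) → IsZero ((H i).obj X)) →
      (Function.support fun i : ℤ => ((i.negOnePow : ℤˣ) : ℤ) • KZero.clSub P ((H i).obj X)).Finite :=
    fun X hX => support_finite P _ a b fun i hi => by rw [cl_isZero P (hX i hi), smul_zero]
  have f₁ := fin T.obj₁ fun i hi => (hz i hi).1
  have f₂ := fin T.obj₂ fun i hi => (hz i hi).2.1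
  have f₃ := fin T.obj₃ fun i hi => (hz i hi).2.2
  have fg : (Function.support g).Finite :=
    support_finite P _ a b fun i hi => by simp only [g, hk i hi, smul_zero]
  have fg' : (Function.support fun i => g (i + 1)).Finite :=
    support_finite P _ (a - 1) b fun i hi => by
      simp only [g, hk (i + 1) (by omega), smul_zero]
  have hsum : euler P T.obj₁ + euler P T.obj₃ - euler P T.obj₂ = ∑ᶠ i : ℤ, (g i - g (i + 1)) := by
    rw [euler, euler, euler, ← finsum_add_distrib f₁ f₃,
      ← finsum_sub_distrib ((f₁.union f₃).subset (Function.support_add _ _)) f₂]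
    refine finsum_congr fun i => ?_
    rw [← smul_add, ← smul_sub, key, smul_add, sub_eq_add_neg]
    simp only [g, Int.negOnePow_succ, Units.val_neg, neg_smul, neg_neg]
  rw [finsum_sub_distrib fg fg',
    finsum_eq_of_bijective (f := fun i : ℤ => g (i + 1)) (g := g) (fun i : ℤ => i + 1)
      (Equiv.addRight (1 : ℤ)).bijective (fun _ => rfl), sub_self] at hsum
  exact (sub_eq_zero.1 hsum).symm

variable {P}

theorem euler_single {X : A} (hX : P X) :
    euler P ((singleFunctor A 0).obj X) = KZero.clSub P X := by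
  rw [euler, finsum_eq_single _ 0 fun i hi => ?_]
  · rw [Int.negOnePow_zero, Units.val_one, one_smul]
    exact clSub_congr P ((singleFunctorCompHomologyFunctorIso A 0).app X)
  · rw [cl_isZero P, smul_zero]
    rcases lt_or_gt_of_ne hi with h | h
    · exact isZero_of_isGE ((singleFunctor A 0).obj X) 0 i h
    · exact isZero_of_isLE ((singleFunctor A 0).obj X) 0 i h

/-- A class of bounded objects of the derived category cut out by cohomology conditions. -/
structure IsHeartClass (P : ObjectProperty A) (Q : ObjectProperty (DerivedCategory A)) : Prop where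
  bdd : ∀ K, Q K → ∃ a b : ℤ, K.IsGE a ∧ K.IsLE b
  hom : ∀ K, Q K → ∀ i : ℤ, P ((H i).obj K)
  conv : ∀ (K : DerivedCategory A) (a b : ℤ), K.IsGE a → K.IsLE b →
    (∀ i : ℤ, P ((H i).obj K)) → Q K

namespace IsHeartClass

variable {Q : ObjectProperty (DerivedCategory A)}

theorem single (hQ : IsHeartClass P Q) {X : A} (hX : P X) (n : ℤ) :
    Q ((singleFunctor A n).obj X) :=
  hQ.conv _ n n inferInstance inferInstance (WeakSerreTri.cohIn_single P n X hX)

theorem closedIso (hQ : IsHeartClass P Q) : Q.IsClosedUnderIsomorphisms where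
  of_iso {X Y} e h := by
    obtain ⟨a, b, ha, hb⟩ := hQ.bdd X h
    exact hQ.conv Y a b (t.isGE_of_iso e a) (t.isLE_of_iso e b)
      (fun i => P.prop_of_iso ((H i).mapIso e) (hQ.hom X h i))

theorem containsZero (hQ : IsHeartClass P Q) : Q.ContainsZero := by
  obtain ⟨Z, hZ, hPZ⟩ := P.exists_prop_of_containsZero
  exact ⟨_, (singleFunctor A 0).map_isZero hZ, hQ.single hPZ 0⟩

theorem clTr_single (hQ : IsHeartClass P Q) {X : A} (hX : P X) (n : ℤ) :
    KZero.clTr Q ((singleFunctor A n).obj X) =
      ((n.negOnePow : ℤˣ) : ℤ) • KZero.clTr Q ((singleFunctor A 0).obj X) := by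
  haveI := hQ.closedIso
  haveI := hQ.containsZero
  have step : ∀ m : ℤ, KZero.clTr Q ((singleFunctor A m).obj X) =
      -KZero.clTr Q ((singleFunctor A (m + 1)).obj X) := fun m => by
    have e : ((singleFunctor A (m + 1)).obj X)⟦(1 : ℤ)⟧ ≅ (singleFunctor A m).obj X :=
      ((singleFunctors A).shiftIso 1 m (m + 1) (by omega)).app X
    rw [← clTr_congr Q e, clTr_shift_one Q (hQ.single hX _) (Q.prop_of_iso e.symm (hQ.single hX _))]
  induction n using Int.induction_on with
  | zero => simp
  | succ n ih =>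
    rw [neg_eq_iff_eq_neg.1 (step n).symm, ih, Int.negOnePow_succ, Units.val_neg, neg_smul]
  | pred n ih =>
    rw [step (-(n : ℤ) - 1), show -(n : ℤ) - 1 + 1 = -(n : ℤ) by omega, ih,
      show Int.negOnePow (-(n : ℤ)) = -Int.negOnePow (-(n : ℤ) - 1) by
        rw [← Int.negOnePow_succ, show -(n : ℤ) - 1 + 1 = -(n : ℤ) by omega],
      Units.val_neg, neg_smul, neg_neg]

/-- Classes of bounded objects lie in every subgroup containing the classes of the heart. -/
theorem clTr_mem (hQ : IsHeartClass P Q) (S : AddSubgroup (KZero.K0tr Q))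
    (hS : ∀ X : A, P X → KZero.clTr Q ((singleFunctor A 0).obj X) ∈ S)
    (a : ℤ) (k : ℕ) (X : DerivedCategory A) [X.IsGE a] [X.IsLE (a + k)] (h : Q X) :
    KZero.clTr Q X ∈ S := by
  haveI := hQ.closedIso
  haveI := hQ.containsZero
  have sing : ∀ (X : DerivedCategory A) (n : ℤ) [X.IsGE n] [X.IsLE n], Q X →
      KZero.clTr Q X ∈ S := fun X n _ _ h => by
    obtain ⟨e⟩ := nonempty_iso_single X n
    rw [clTr_congr Q e, hQ.clTr_single (hQ.hom X h n)]
    exact S.zsmul_mem (hS _ (hQ.hom X h n)) _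
  induction k generalizing X with
  | zero =>
    haveI : X.IsLE a := t.isLE_of_le X (a + ((0 : ℕ) : ℤ)) a (by omega)
    exact sing X a h
  | succ k ih =>
    let b : ℤ := a + k
    haveI : X.IsLE (b + 1) := t.isLE_of_le X (a + ((k + 1 : ℕ) : ℤ)) (b + 1) (by simp [b]; omega)
    haveI : ((t.truncLE b).obj X).IsGE a := by
      rw [isGE_iff]
      intro i hi
      rcases le_or_gt i b with hib | hib
      · haveI := isIso_homology_truncLEι X b i hib
        exact (isZero_of_isGE X a i hi).of_iso (asIso ((H i).map ((t.truncLEι b).app X)))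
      · exact isZero_of_isLE _ b i hib
    haveI : ((t.truncLE b).obj X).IsLE (a + k) := t.isLE_of_le _ b (a + k) le_rfl
    haveI : ((t.truncGT b).obj X).IsLE (b + 1) := by
      rw [isLE_iff]
      intro i hi
      haveI := isIso_homology_truncGTπ X b i (by omega)
      exact (isZero_of_isLE X (b + 1) i hi).of_iso (asIso ((H i).map ((t.truncGTπ b).app X))).symm
    have h₁ : Q ((t.truncLE b).obj X) := hQ.conv _ a (a + k) inferInstance inferInstance fun i => by
      rcases le_or_gt i b with hib | hib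
      · haveI := isIso_homology_truncLEι X b i hib
        exact P.prop_of_iso (asIso ((H i).map ((t.truncLEι b).app X))).symm (hQ.hom X h i)
      · exact P.prop_of_isZero (isZero_of_isLE _ b i hib)
    have h₃ : Q ((t.truncGT b).obj X) :=
      hQ.conv _ (b + 1) (b + 1) inferInstance inferInstance fun i => by
      rcases le_or_gt i b with hib | hib
      · exact P.prop_of_isZero (isZero_of_isGE _ (b + 1) i (by omega))
      · haveI := isIso_homology_truncGTπ X b i hib
        exact P.prop_of_iso (asIso ((H i).map ((t.truncGTπ b).app X))) (hQ.hom X h i)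
    have := clTr_add Q _ (t.triangleLEGT_distinguished b X) h₁ h h₃
    change KZero.clTr Q X = _ at this
    rw [this]
    exact S.add_mem (ih ((t.truncLE b).obj X) h₁) (sing ((t.truncGT b).obj X) (b + 1) h₃)

theorem clTr_mem' (hQ : IsHeartClass P Q) (S : AddSubgroup (KZero.K0tr Q))
    (hS : ∀ X : A, P X → KZero.clTr Q ((singleFunctor A 0).obj X) ∈ S)
    (X : DerivedCategory A) (h : Q X) : KZero.clTr Q X ∈ S := by
  obtain ⟨a, b, ha, hb⟩ := hQ.bdd X h
  haveI := ha
  haveI := hb
  haveI : X.IsLE (a + ((b - a).toNat : ℤ)) := t.isLE_of_le X b _ (by omega)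
  exact clTr_mem hQ S hS a (b - a).toNat X h

/-- `K₀` of the heart is `K₀` of the bounded triangulated category. -/
theorem exists_equiv (hQ : IsHeartClass P Q) :
    ∃ φ : KZero.K0sub P ≃+ KZero.K0tr Q, ∀ X : A, P X →
      φ (KZero.clSub P X) = KZero.clTr Q ((singleFunctor A 0).obj X) := by
  haveI := hQ.closedIso
  haveI := hQ.containsZero
  obtain ⟨φ, hφ⟩ := exists_lift_sub P (fun X => KZero.clTr Q ((singleFunctor A 0).obj X))
    fun S hS h₁ h₂ h₃ => by
      have := clTr_add Q _ hS.singleTriangle_distinguished (hQ.single h₁ 0) (hQ.single h₂ 0)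
        (hQ.single h₃ 0)
      exact this
  obtain ⟨ψ, hψ⟩ := exists_lift_tr Q (euler P) fun T hT h₁ h₂ h₃ => by
    obtain ⟨a₁, b₁, _, _⟩ := hQ.bdd _ h₁
    obtain ⟨a₂, b₂, _, _⟩ := hQ.bdd _ h₂
    obtain ⟨a₃, b₃, _, _⟩ := hQ.bdd _ h₃
    refine euler_add P T hT (min a₁ (min a₂ a₃)) (max b₁ (max b₂ b₃)) (fun i hi => ?_)
      (hQ.hom _ h₁) (hQ.hom _ h₂) (hQ.hom _ h₃)
    rcases hi with hi | hi
    · exact ⟨isZero_of_isGE T.obj₁ a₁ i (lt_of_lt_of_le hi (min_le_left _ _)),
        isZero_of_isGE T.obj₂ a₂ i (by omega), isZero_of_isGE T.obj₃ a₃ i (by omega)⟩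
    · exact ⟨isZero_of_isLE T.obj₁ b₁ i (by omega),
        isZero_of_isLE T.obj₂ b₂ i (by omega), isZero_of_isLE T.obj₃ b₃ i (by omega)⟩
  have left : ∀ x, ψ (φ x) = x := fun x => DFunLike.congr_fun
    (AddMonoidHom.eq_of_eqOn_dense (f := ψ.comp φ) (g := AddMonoidHom.id _)
      (clSub_closure_eq_top P) fun y hy => by
        obtain ⟨X, hX, rfl⟩ := hy
        rw [AddMonoidHom.comp_apply, hφ X hX, hψ _ (hQ.single hX 0), euler_single hX]
        rfl) x
  have surj : φ.range = ⊤ := by
    rw [eq_top_iff, ← clTr_closure_eq_top Q, AddSubgroup.closure_le]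
    rintro _ ⟨X, hX, rfl⟩
    exact hQ.clTr_mem' φ.range (fun Y hY => ⟨_, hφ Y hY⟩) X hX
  exact ⟨AddEquiv.ofBijective φ ⟨Function.LeftInverse.injective left,
    AddMonoidHom.range_eq_top.1 surj⟩, hφ⟩

end IsHeartClass

end Groth.Agent.KHeartLib
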