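import Groth.Agent.KHeartLib.Classes
import Groth.Agent.DRingLib.Devissage
import Mathlib.Algebra.BigOperators.Finprod
import Mathlib.Algebra.Ring.NegOnePow
import Mathlib.Data.Int.Interval

/-!
# Euler characteristics of perfect complexes of modules
-/

set_option autoImplicit false
set_option linter.style.haveILetI false
set_option linter.unusedSectionVars false

universe u

open CategoryTheory CategoryTheory.Limits HomologicalComplex
open CategoryTheory.Pretriangulated (Triangle)

attribute [local instance] HasDerivedCategory.standard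

namespace Groth.Agent.KHeartLib

variable {R : Type u} [CommRing R]

/-- Finite projective modules. -/
abbrev FProj (R : Type u) [CommRing R] : ObjectProperty (ModuleCat.{u} R) :=
  fun M => Module.Finite R M ∧ Module.Projective R M

local notation "cls" => KZero.clSub (FProj R)

theorem fproj_of_retract {M N : ModuleCat.{u} R} (i : M ⟶ N) (r : N ⟶ M) (h : i ≫ r = 𝟙 M)
    (hN : FProj R N) : FProj R M := by
  haveI := hN.1
  haveI := hN.2
  have hs : r.hom.comp i.hom = LinearMap.id := congrArg ModuleCat.Hom.hom h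
  exact ⟨Module.Finite.of_surjective r.hom fun x => ⟨i.hom x, LinearMap.congr_fun hs x⟩,
    Module.Projective.of_split i.hom r.hom hs⟩

theorem fproj_of_isZero {M : ModuleCat.{u} R} (h : IsZero M) : FProj R M := by
  haveI := DRingLib.free_of_isZero h
  exact ⟨DRingLib.finite_of_isZero h, Module.Projective.of_free⟩

theorem fproj_of_iso {M N : ModuleCat.{u} R} (e : M ≅ N) (h : FProj R M) : FProj R N :=
  fproj_of_retract e.inv e.hom e.inv_hom_id h

instance : (FProj R).IsClosedUnderIsomorphisms := ⟨fun e h => fproj_of_iso e h⟩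

instance : (FProj R).ContainsZero := ⟨_, isZero_zero _, fproj_of_isZero (isZero_zero _)⟩

theorem fproj_biprod {M N : ModuleCat.{u} R} (hM : FProj R M) (hN : FProj R N) :
    FProj R (M ⊞ N : ModuleCat.{u} R) := by
  haveI := hM.1
  haveI := hM.2
  haveI := hN.1
  haveI := hN.2
  exact fproj_of_iso (ModuleCat.biprodIsoProd M N).symm
    (show Module.Finite R (M × N) ∧ Module.Projective R (M × N) from ⟨inferInstance, inferInstance⟩)

theorem cls_biprod {M N : ModuleCat.{u} R} (hM : FProj R M) (hN : FProj R N) :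
    cls (M ⊞ N : ModuleCat.{u} R) = cls M + cls N :=
  clSub_add (FProj R) (ShortComplex.mk (biprod.inl : M ⟶ M ⊞ N) (biprod.snd : M ⊞ N ⟶ N) (by simp))
    ((ShortComplex.Splitting.ofHasBinaryBiproduct M N).shortExact) hM (fproj_biprod hM hN) hN

/-- The alternating sum of the classes of the terms. -/
noncomputable def chi (E : CochainComplex (ModuleCat.{u} R) ℤ) : KZero.K0sub (FProj R) :=
  ∑ᶠ i : ℤ, ((i.negOnePow : ℤˣ) : ℤ) • cls (E.X i)

/-- A bounded complex of finite projective modules. -/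
def Bdd (E : CochainComplex (ModuleCat.{u} R) ℤ) : Prop :=
  (∀ i, FProj R (E.X i)) ∧ ∃ a b : ℤ, ∀ i, (i < a ∨ b < i) → IsZero (E.X i)

theorem support_finite' (f : ℤ → KZero.K0sub (FProj R)) (a b : ℤ)
    (h : ∀ i, (i < a ∨ b < i) → f i = 0) : (Function.support f).Finite :=
  (Set.finite_Icc a b).subset fun i hi => by
    by_contra h'
    exact hi (h i (by simp only [Set.mem_Icc, not_and, not_le] at h'; omega))

theorem chi_finite {E : CochainComplex (ModuleCat.{u} R) ℤ} (hE : Bdd E) :
    (Function.support fun i : ℤ => ((i.negOnePow : ℤˣ) : ℤ) • cls (E.X i)).Finite := by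
  obtain ⟨a, b, h⟩ := hE.2
  exact support_finite' _ a b fun i hi => by
    rw [clSub_eq_zero _ (hE.1 i) (h i hi), smul_zero]

/-- Telescoping sums. -/
theorem finsum_telescope (k : ℤ → KZero.K0sub (FProj R)) (a b : ℤ)
    (hk : ∀ i, (i < a ∨ b < i) → k i = 0) :
    ∑ᶠ i : ℤ, ((i.negOnePow : ℤˣ) : ℤ) • (k i + k (i + 1)) = 0 := by
  let g : ℤ → KZero.K0sub (FProj R) := fun i => ((i.negOnePow : ℤˣ) : ℤ) • k i
  have fg : (Function.support g).Finite :=
    support_finite' _ a b fun i hi => by simp only [g, hk i hi, smul_zero]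
  have fg' : (Function.support fun i => g (i + 1)).Finite :=
    support_finite' _ (a - 1) b fun i hi => by simp only [g, hk (i + 1) (by omega), smul_zero]
  have h : ∀ i : ℤ, ((i.negOnePow : ℤˣ) : ℤ) • (k i + k (i + 1)) = g i - g (i + 1) := fun i => by
    rw [smul_add, sub_eq_add_neg]
    simp only [g, Int.negOnePow_succ, Units.val_neg, neg_smul, neg_neg]
  rw [finsum_congr h, finsum_sub_distrib fg fg',
    finsum_eq_of_bijective (f := fun i : ℤ => g (i + 1)) (g := g) (fun i : ℤ => i + 1)
      (Equiv.addRight (1 : ℤ)).bijective (fun _ => rfl), sub_self]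

theorem chi_acyclic {E : CochainComplex (ModuleCat.{u} R) ℤ} (hE : Bdd E)
    (h : ∀ i, E.ExactAt i) : chi E = 0 := by
  obtain ⟨hp, a, b, hz⟩ := id hE
  have hzZ : ∀ i, (i < a ∨ b < i) → IsZero (E.cycles i) := fun i hi => (hz i hi).of_mono (E.iCycles i)
  have hepi : ∀ i, Epi (E.toCycles i (i + 1)) := fun i => by
    have := h (i + 1)
    rw [exactAt_iff_isZero_homology] at this
    exact Preadditive.epi_of_isZero_cokernel' _ (E.homologyIsCokernel i (i + 1) (by simp)) this
  have hS : ∀ i, (ShortComplex.mk (E.iCycles i) (E.toCycles i (i + 1))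
      (by rw [← cancel_mono (E.iCycles (i + 1))]; simp)).ShortExact := fun i =>
    haveI := hepi i
    { exact := ShortComplex.exact_of_f_is_kernel _ (isKernelOfComp (E.iCycles (i + 1))
        (f := E.toCycles i (i + 1)) (h := E.d i (i + 1))
        (E.cyclesIsKernel i (i + 1) (by simp)) (by rw [← cancel_mono (E.iCycles (i + 1))]; simp)
        (E.toCycles_i i (i + 1))) }
  have hZ : ∀ (n : ℕ) (i : ℤ), b + 1 ≤ i + n → FProj R (E.cycles i) := by
    intro n
    induction n with
    | zero => exact fun i hi => fproj_of_isZero (hzZ i (by omega))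
    | succ n ih =>
      intro i hi
      have h1 := ih (i + 1) (by push_cast at hi; omega)
      haveI := h1.2
      obtain ⟨s, hs⟩ := Module.projective_lifting_property (E.toCycles i (i + 1)).hom LinearMap.id
        ((ModuleCat.epi_iff_surjective _).1 (hepi i))
      let sp := ShortComplex.Splitting.ofExactOfSection _ (hS i).exact
        (ModuleCat.ofHom s) (ModuleCat.hom_ext hs) (hS i).mono_f
      exact fproj_of_retract (E.iCycles i) sp.r sp.f_r (hp i)
  let k : ℤ → KZero.K0sub (FProj R) := fun i => cls (E.cycles i)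
  have hP : ∀ i, FProj R (E.cycles i) := fun i => hZ (b + 1 - i).toNat i (by omega)
  have e : ∀ i, cls (E.X i) = k i + k (i + 1) := fun i =>
    clSub_add (FProj R) _ (hS i) (hP i) (hp i) (hP (i + 1))
  rw [chi, finsum_congr fun i => by rw [e i]]
  exact finsum_telescope k a b fun i hi => clSub_eq_zero _ (hP i) (hzZ i hi)

theorem bdd_cone {E F : CochainComplex (ModuleCat.{u} R) ℤ} (f : E ⟶ F) (hE : Bdd E) (hF : Bdd F) :
    Bdd (CochainComplex.mappingCone f) := by
  obtain ⟨h₁, a, b, hz⟩ := hE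
  obtain ⟨h₂, c, d, hw⟩ := hF
  let e : ∀ i : ℤ, (CochainComplex.mappingCone f).X i ≅ E.X (i + 1) ⊞ F.X i := fun i =>
    homotopyCofiber.XIsoBiprod f i (i + 1) rfl
  refine ⟨fun i => fproj_of_iso (e i).symm (fproj_biprod (h₁ _) (h₂ i)), min (a - 1) c, max b d,
    fun i hi => IsZero.of_iso ?_ (e i)⟩
  rw [biprod_isZero_iff]
  exact ⟨hz _ (by omega), hw _ (by omega)⟩

theorem chi_cone {E F : CochainComplex (ModuleCat.{u} R) ℤ} (f : E ⟶ F) (hE : Bdd E) (hF : Bdd F) :
    chi (CochainComplex.mappingCone f) = chi F - chi E := by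
  let e : ∀ i : ℤ, (CochainComplex.mappingCone f).X i ≅ E.X (i + 1) ⊞ F.X i := fun i =>
    homotopyCofiber.XIsoBiprod f i (i + 1) rfl
  have h : ∀ i : ℤ, ((i.negOnePow : ℤˣ) : ℤ) • cls ((CochainComplex.mappingCone f).X i) =
      ((i.negOnePow : ℤˣ) : ℤ) • cls (F.X i) -
        (((i + 1).negOnePow : ℤˣ) : ℤ) • cls (E.X (i + 1)) := fun i => by
    rw [clSub_congr (FProj R) (e i), cls_biprod (hE.1 _) (hF.1 i), smul_add, Int.negOnePow_succ,
      Units.val_neg, neg_smul, sub_neg_eq_add, add_comm]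
  have fE : (Function.support fun i : ℤ =>
      (((i + 1).negOnePow : ℤˣ) : ℤ) • cls (E.X (i + 1))).Finite := by
    obtain ⟨hp, a, b, hz⟩ := hE
    exact support_finite' _ (a - 1) b fun i hi => by
      rw [clSub_eq_zero _ (hp _) (hz _ (by omega)), smul_zero]
  rw [chi, finsum_congr h, finsum_sub_distrib (chi_finite hF) fE,
    finsum_eq_of_bijective (f := fun i : ℤ => (((i + 1).negOnePow : ℤˣ) : ℤ) • cls (E.X (i + 1)))
      (g := fun i : ℤ => ((i.negOnePow : ℤˣ) : ℤ) • cls (E.X i)) (fun i : ℤ => i + 1)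
      (Equiv.addRight (1 : ℤ)).bijective (fun _ => rfl)]
  rfl

theorem isKProjective_of_bdd {E : CochainComplex (ModuleCat.{u} R) ℤ} (hE : Bdd E) :
    E.IsKProjective := by
  obtain ⟨hp, a, b, hz⟩ := hE
  haveI : E.IsStrictlyLE b := (CochainComplex.isStrictlyLE_iff E b).2 fun i hi => hz i (Or.inr hi)
  haveI : ∀ n : ℤ, Projective (E.X n) := fun n =>
    haveI := (hp n).2
    (IsProjective.iff_projective (R := R) (P := E.X n)).mp inferInstance
  exact CochainComplex.isKProjective_of_projective E b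

/-- The Euler characteristic only depends on the object of the derived category. -/
theorem chi_of_iso {E F : CochainComplex (ModuleCat.{u} R) ℤ} (hE : Bdd E) (hF : Bdd F)
    (e : DerivedCategory.Q.obj E ≅ DerivedCategory.Q.obj F) : chi E = chi F := by
  haveI := isKProjective_of_bdd hE
  obtain ⟨g, hg⟩ := DRingLib.exists_qis_of_iso E F e
  have h0 := chi_acyclic (bdd_cone g hE hF) fun i => by
    have hz := (DerivedCategory.mem_distTriang_iff (DerivedCategory.Q.mapTriangle.obj
      (CochainComplex.mappingCone.triangle g))).2 ⟨_, _, g, ⟨Iso.refl _⟩⟩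
    haveI : IsIso (DerivedCategory.Q.map g) :=
      (DerivedCategory.isIso_Q_map_iff_quasiIso (ModuleCat.{u} R) g).2 hg
    haveI : IsIso (DerivedCategory.Q.mapTriangle.obj
      (CochainComplex.mappingCone.triangle g)).mor₁ := ‹_›
    have hc : IsZero (DerivedCategory.Q.obj (CochainComplex.mappingCone g)) :=
      (Pretriangulated.Triangle.isZero₃_iff_isIso₁ _ hz).2 inferInstance
    rw [exactAt_iff_isZero_homology]
    exact ((DerivedCategory.homologyFunctor (ModuleCat.{u} R) i).map_isZero hc).of_iso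
      ((DerivedCategory.homologyFunctorFactors (ModuleCat.{u} R) i).app _).symm
  rw [chi_cone g hE hF, sub_eq_zero] at h0
  exact h0.symm

/-- A chosen bounded model, as a junk-free choice on perfect objects. -/
theorem exists_bdd_of_isPerfect {K : Dual.D R} (h : DRing.IsPerfect R K) :
    ∃ E : CochainComplex (ModuleCat.{u} R) ℤ, Bdd E ∧ Nonempty (DRing.toD E ≅ K) := by
  obtain ⟨E, a, b, hv, hp, he⟩ := h
  exact ⟨E, ⟨fun i => hp i, a, b, fun i hi => hv i hi⟩, he⟩

open Classical in
/-- The Euler characteristic on `D(R)`, zero on non-perfect objects. -/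
noncomputable def chiD (K : Dual.D R) : KZero.K0sub (FProj R) :=
  if h : DRing.IsPerfect R K then chi (exists_bdd_of_isPerfect h).choose else 0

theorem chiD_eq {E : CochainComplex (ModuleCat.{u} R) ℤ} (hE : Bdd E) {K : Dual.D R}
    (e : DRing.toD E ≅ K) : chiD K = chi E := by
  obtain ⟨hp, a, b, hz⟩ := id hE
  have hK : DRing.IsPerfect R K := ⟨E, a, b, fun i hi => hz i hi, fun i => hp i, ⟨e⟩⟩
  rw [chiD, dif_pos hK]
  exact chi_of_iso (exists_bdd_of_isPerfect hK).choose_spec.1 hE
    ((exists_bdd_of_isPerfect hK).choose_spec.2.some ≪≫ e.symm)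

theorem chiD_add (T : Triangle (Dual.D R)) (hT : T ∈ Pretriangulated.distinguishedTriangles)
    (h₁ : DRing.IsPerfect R T.obj₁) (h₂ : DRing.IsPerfect R T.obj₂) :
    chiD T.obj₂ = chiD T.obj₁ + chiD T.obj₃ := by
  obtain ⟨E, hE, ⟨e₁⟩⟩ := exists_bdd_of_isPerfect h₁
  obtain ⟨F, hF, ⟨e₂⟩⟩ := exists_bdd_of_isPerfect h₂
  haveI := isKProjective_of_bdd hE
  obtain ⟨f, hf⟩ := DRingLib.Q_map_surjective E F (e₁.hom ≫ T.mor₁ ≫ e₂.inv)
  let S := DerivedCategory.Q.mapTriangle.obj (CochainComplex.mappingCone.triangle f)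
  have e₃ : DRing.toD (CochainComplex.mappingCone f) ≅ T.obj₃ :=
    Triangle.π₃.mapIso (Pretriangulated.isoTriangleOfIso₁₂ S T
      ((DerivedCategory.mem_distTriang_iff S).2 ⟨_, _, f, ⟨Iso.refl _⟩⟩) hT e₁ e₂
      (by change DerivedCategory.Q.map f ≫ e₂.hom = e₁.hom ≫ T.mor₁; rw [hf]; simp))
  rw [chiD_eq hE e₁, chiD_eq hF e₂, chiD_eq (bdd_cone f hE hF) e₃, chi_cone f hE hF]
  abel

end Groth.Agent.KHeartLib
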